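import Mathlib
import Groth.Prelude.Def_KoszulSh

/-! Morphisms of modules given on affine opens, and exterior powers of maps. -/

set_option autoImplicit false
set_option backward.isDefEq.respectTransparency false
set_option backward.isDefEq.respectTransparency.types false

universe u

open CategoryTheory AlgebraicGeometry Opposite TopologicalSpace

namespace Groth.Agent.KoszShLib

noncomputable section

variable {X : Scheme.{u}} {M N : X.Modules}

lemma isBasis_range : Opens.IsBasis (Set.range fun W : X.affineOpens => W.1) := by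
  rw [Subtype.range_coe_subtype]
  exact X.isBasis_affineOpens

theorem eq_of_affine (U : X.Opens) (a b : Γ(N, U))
    (h : ∀ W : X.affineOpens, ∀ hW : W.1 ≤ U, N.presheaf.map (homOfLE hW).op a = N.presheaf.map (homOfLE hW).op b) :
    a = b := by
  let Ns : TopCat.Sheaf Ab X := ⟨N.presheaf, N.isSheaf⟩
  refine Ns.eq_of_locally_eq' (fun W : {W : X.affineOpens // W.1 ≤ U} => W.1.1) U
    (fun W => homOfLE W.2) (fun x hx => ?_) _ _ fun W => h W.1 W.2
  obtain ⟨_, ⟨V, hV, rfl⟩, hxV, hVU⟩ := X.isBasis_affineOpens.exists_subset_of_mem_open hx U.isOpen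
  exact Opens.mem_iSup.2 ⟨⟨⟨V, hV⟩, hVU⟩, hxV⟩

theorem hom_ext_affine (φ ψ : M ⟶ N) (h : ∀ (W : X.affineOpens) (t : Γ(M, W.1)), φ.app W.1 t = ψ.app W.1 t) : φ = ψ := by
  refine Scheme.Modules.hom_ext _ _ fun U => AddCommGrpCat.hom_ext (AddMonoidHom.ext fun t => ?_)
  refine eq_of_affine U _ _ fun W hW => ?_
  show N.presheaf.map (homOfLE hW).op (φ.mapPresheaf.app (op U) t) = N.presheaf.map (homOfLE hW).op (ψ.mapPresheaf.app (op U) t)
  rw [← NatTrans.naturality_apply φ.mapPresheaf (homOfLE hW).op, ← NatTrans.naturality_apply ψ.mapPresheaf (homOfLE hW).op]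
  exact h W _

theorem exists_hom_of_affine (h : ∀ W : X.affineOpens, Γ(M, W.1) →ₗ[Γ(X, W.1)] Γ(N, W.1))
    (hres : ∀ (V W : X.affineOpens) (hVW : V.1 ≤ W.1) (t : Γ(M, W.1)),
      h V (M.presheaf.map (homOfLE hVW).op t) = N.presheaf.map (homOfLE hVW).op (h W t)) :
    ∃ φ : M ⟶ N, ∀ (W : X.affineOpens) (t : Γ(M, W.1)), φ.app W.1 t = h W t := by
  let Ns : TopCat.Sheaf Ab X := ⟨N.presheaf, N.isSheaf⟩
  let nat : (inducedFunctor fun W : X.affineOpens => W.1).op ⋙ M.presheaf ⟶
      (inducedFunctor fun W : X.affineOpens => W.1).op ⋙ N.presheaf :=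
    { app := fun W => AddCommGrpCat.ofHom (h W.unop).toAddMonoidHom
      naturality := fun W V i => by
        ext t
        exact hres V.unop W.unop i.unop.hom.le t }
  let g : M.presheaf ⟶ N.presheaf := TopCat.Sheaf.restrictHomEquivHom M.presheaf Ns isBasis_range nat
  have hg : ∀ W : X.affineOpens, g.app (op W.1) = AddCommGrpCat.ofHom (h W).toAddMonoidHom := fun W =>
    TopCat.Sheaf.extend_hom_app M.presheaf Ns isBasis_range nat W
  have hg' : ∀ (W : X.affineOpens) (t : Γ(M, W.1)), g.app (op W.1) t = h W t := fun W t =>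
    ConcreteCategory.congr_hom (hg W) t
  refine ⟨⟨PresheafOfModules.homMk g fun U r t => ?_⟩, fun W t => hg' W t⟩
  change Γ(M, U.unop) at t
  change Γ(X, U.unop) at r
  show g.app (op U.unop) (r • t) = r • g.app (op U.unop) t
  refine eq_of_affine U.unop _ _ fun W hW => ?_
  rw [Scheme.Modules.map_smul, ← NatTrans.naturality_apply g (homOfLE hW).op,
    ← NatTrans.naturality_apply g (homOfLE hW).op, Scheme.Modules.map_smul, hg', hg', map_smul]

/-- A morphism read on the sections over an open. -/
def appLin (f : M ⟶ N) (U : X.Opens) : Γ(M, U) →ₗ[Γ(X, U)] Γ(N, U) where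
  toFun e := f.app U e
  map_add' a b := map_add _ a b
  map_smul' r a := Scheme.Modules.Hom.app_smul f r a

theorem appLin_apply (f : M ⟶ N) (U : X.Opens) (e : Γ(M, U)) : appLin f U e = f.app U e := rfl

theorem app_res (f : M ⟶ N) {V U : X.Opens} (h : V ≤ U) (e : Γ(M, U)) :
    f.app V (M.presheaf.map (homOfLE h).op e) = N.presheaf.map (homOfLE h).op (f.app U e) :=
  NatTrans.naturality_apply f.mapPresheaf (homOfLE h).op e

/-- A semilinear statement on exterior powers is checked on decomposable elements. -/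
theorem extPow_induction {R P : Type*} [CommRing R] [AddCommGroup P] [Module R P] (p : ℕ)
    {motive : ↥(⋀[R]^p P) → Prop} (hι : ∀ e, motive (exteriorPower.ιMulti R p e)) (h0 : motive 0)
    (hadd : ∀ a b, motive a → motive b → motive (a + b)) (hsmul : ∀ (r : R) a, motive a → motive (r • a))
    (x : ↥(⋀[R]^p P)) : motive x := by
  have hx : x ∈ Submodule.span R (Set.range (exteriorPower.ιMulti R p (M := P))) := by
    rw [exteriorPower.ιMulti_span]; trivial
  induction hx using Submodule.span_induction with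
  | mem y hy => obtain ⟨e, rfl⟩ := hy; exact hι e
  | zero => exact h0
  | add a b _ _ ha hb => exact hadd a b ha hb
  | smul r a _ ha => exact hsmul r a ha

end

end Groth.Agent.KoszShLib
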