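import Groth.Agent.KoszShLib.Resolution
import Groth.Agent.S0938
import Groth.Agent.DeformLib.FlatLift
import Groth.Agent.CMCat.Local
import Groth.Agent.DCohLib.Restrict
import Groth.Agent.RegIdealLib.Immersion

/-! Regular sequences cutting out local complete intersections, and their Koszul resolutions. -/

set_option autoImplicit false
set_option backward.isDefEq.respectTransparency false
set_option backward.isDefEq.respectTransparency.types false
set_option linter.style.haveILetI false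

universe u

open CategoryTheory AlgebraicGeometry IsLocalRing RingTheory.Sequence

namespace Groth.Agent.KoszShLib

section Local

variable {R : Type u} [CommRing R] [LocCoh.IsCohenMacaulayLocalRing R]

theorem weaklyRegular_of_height (rs : List R) (hmem : ∀ x ∈ rs, x ∈ maximalIdeal R)
    (hh : (rs.length : ℕ∞) ≤ (Ideal.ofList rs).height) : IsWeaklyRegular R rs := by
  let I := Ideal.ofList rs
  have hI : I ≤ maximalIdeal R := Ideal.span_le.mpr hmem
  have hne : I ≠ ⊤ := fun h => (maximalIdeal.isMaximal R).ne_top (top_le_iff.mp (h ▸ hI))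
  haveI : Nontrivial (R ⧸ I) := Ideal.Quotient.nontrivial_iff.mpr hne
  haveI : IsLocalRing (R ⧸ I) := .of_surjective' _ Ideal.Quotient.mk_surjective
  obtain ⟨d, hd⟩ := RegLocal.exists_nat_ringKrullDim R
  obtain ⟨e, he⟩ := RegLocal.exists_nat_ringKrullDim (R ⧸ I)
  refine DeformLib.isWeaklyRegular_of_ringKrullDim rs hmem (le_antisymm ?_ ?_)
  · show ringKrullDim (R ⧸ I) + _ ≤ _
    obtain ⟨l, hl⟩ : ∃ l : LTSeries (PrimeSpectrum.zeroLocus (I : Set R)), l.length = e :=
      Order.le_krullDim_iff.mp (by rw [← ringKrullDim_quotient, he])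
    let p := l.head.1
    have hp : I ≤ p.asIdeal := l.head.2
    let l' : LTSeries (PrimeSpectrum.zeroLocus (p.asIdeal : Set R)) :=
      ⟨l.length, fun i => ⟨(l i).1, show p.asIdeal ≤ (l i).1.asIdeal from l.head_le i⟩, fun i => l.step i⟩
    have hle : ((e : ℕ) : WithBot ℕ∞) ≤ ringKrullDim (R ⧸ p.asIdeal) := by
      rw [ringKrullDim_quotient, ← hl]
      exact Order.LTSeries.length_le_krullDim l'
    obtain ⟨-, hcm⟩ := CMCat.height_add_and_cm (R := R) p.asIdeal
    rw [← hcm, he, add_comm]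
    exact add_le_add (WithBot.coe_le_coe.mpr (le_trans hh (Ideal.height_mono hp))) hle
  · show _ ≤ ringKrullDim (R ⧸ I) + _
    rw [← maximalIdeal_height_eq_ringKrullDim]
    refine le_trans (Ideal.height_le_ringKrullDim_quotient_add_encard {x | x ∈ rs} hmem) (add_le_add_right ?_ _)
    refine WithBot.coe_le_coe.mpr ?_
    classical
    rw [show {x | x ∈ rs} = (rs.toFinset : Set R) by ext x; simp, Set.encard_coe_eq_coe_finsetCard]
    exact_mod_cast List.toFinset_card_le rs

/-- A sequence which is weakly regular at a prime is weakly regular on a basic open around it. -/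
theorem exists_weaklyRegular_away {A : Type u} [CommRing A] [IsNoetherianRing A] (P : Ideal A) [P.IsPrime]
    (S : Type u) [CommRing S] [Algebra A S] [IsLocalization.AtPrime S P] (rs : List A)
    (h : IsWeaklyRegular S (rs.map (algebraMap A S))) :
    ∃ g ∉ P, ∀ (T : Type u) [CommRing T] [Algebra A T] [IsLocalization.Away g T],
      IsWeaklyRegular T (rs.map (algebraMap A T)) := by
  classical
  rw [isWeaklyRegular_iff_Fin] at h
  have key : ∀ i : Fin rs.length, ∃ g ∉ P, ∀ x, rs.get i * x ∈ Ideal.ofList (rs.take i) → g * x ∈ Ideal.ofList (rs.take i) := by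
    intro i
    let J := Ideal.ofList (rs.take i)
    let K : Ideal A := Submodule.comap (rs.get i • (LinearMap.id : A →ₗ[A] A)) J
    obtain ⟨gen, hgen⟩ := IsNoetherian.noetherian K
    have hx : ∀ x ∈ K, ∃ t ∉ P, t * x ∈ J := by
      intro x hx
      have hi := h ⟨i, by rw [List.length_map]; exact i.2⟩
      have h0 : (Submodule.Quotient.mk (algebraMap A S x) :
          S ⧸ (Ideal.ofList ((rs.map (algebraMap A S)).take i) • ⊤ : Submodule S S)) = 0 := by
        refine hi.right_eq_zero_of_smul ?_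
        rw [← Submodule.Quotient.mk_smul, Submodule.Quotient.mk_eq_zero, smul_eq_mul, smul_eq_mul, Ideal.mul_top,
          ← List.map_take, ← Ideal.map_ofList]
        simp only [List.getElem_map, Fin.getElem_fin, ← map_mul]
        exact Ideal.mem_map_of_mem _ hx
      rw [Submodule.Quotient.mk_eq_zero, smul_eq_mul, Ideal.mul_top, ← List.map_take, ← Ideal.map_ofList,
        IsLocalization.algebraMap_mem_map_algebraMap_iff P.primeCompl] at h0
      obtain ⟨t, ht, htx⟩ := h0
      exact ⟨t, ht, htx⟩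
    choose t ht htx using hx
    refine ⟨∏ x ∈ gen.attach, t x.1 (hgen ▸ Submodule.subset_span x.2), fun hm => ?_, fun x hxJ => ?_⟩
    · obtain ⟨y, -, hy⟩ := Ideal.IsPrime.prod_mem_iff.mp hm
      exact ht _ _ hy
    · have hle : K ≤ Submodule.comap ((∏ x ∈ gen.attach, t x.1 (hgen ▸ Submodule.subset_span x.2)) • (LinearMap.id : A →ₗ[A] A)) J := by
        refine hgen.ge.trans (Submodule.span_le.mpr fun y hy => ?_)
        show (∏ x ∈ gen.attach, t x.1 (hgen ▸ Submodule.subset_span x.2)) * y ∈ J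
        rw [← Finset.prod_erase_mul _ _ (Finset.mem_attach gen ⟨y, hy⟩), mul_assoc]
        exact J.mul_mem_left _ (htx _ _)
      exact hle hxJ
  choose g hg hgJ using key
  refine ⟨∏ i, g i, fun hm => ?_, fun T _ _ _ => ?_⟩
  · obtain ⟨i, -, hi⟩ := Ideal.IsPrime.prod_mem_iff.mp hm
    exact hg i hi
  rw [isWeaklyRegular_iff_Fin]
  intro i
  have hi : (i : ℕ) < rs.length := by have h2 := i.2; simpa only [List.length_map] using h2
  refine isSMulRegular_iff_right_eq_zero_of_smul.mpr fun z hz => ?_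
  obtain ⟨z, rfl⟩ := Submodule.Quotient.mk_surjective _ z
  obtain ⟨x, ⟨_, m, rfl⟩, rfl⟩ := IsLocalization.exists_mk'_eq (Submonoid.powers (∏ i, g i)) z
  rw [← Submodule.Quotient.mk_smul, Submodule.Quotient.mk_eq_zero] at hz
  rw [Submodule.Quotient.mk_eq_zero]
  simp only [smul_eq_mul, Ideal.mul_top, ← List.map_take, ← Ideal.map_ofList, List.getElem_map, Fin.getElem_fin,
    IsLocalization.mul_mk'_eq_mk'_of_mul, IsLocalization.mk'_mem_map_algebraMap_iff] at hz ⊢
  obtain ⟨_, ⟨k, rfl⟩, hk⟩ := hz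
  refine ⟨(∏ i, g i) ^ (k + 1), ⟨k + 1, rfl⟩, ?_⟩
  have hx : g ⟨i, hi⟩ * ((∏ i, g i) ^ k * x) ∈ Ideal.ofList (rs.take i) := by
    refine hgJ ⟨i, hi⟩ _ ?_
    rw [mul_left_comm]
    exact hk
  obtain ⟨c, hc⟩ := Finset.dvd_prod_of_mem g (Finset.mem_univ (⟨i, hi⟩ : Fin rs.length))
  have := Ideal.mul_mem_left _ c hx
  rw [← mul_assoc, mul_comm c, ← hc, ← mul_assoc, ← pow_succ'] at this
  exact this

end Local

theorem weaklyRegular_map_ringEquiv {A B : Type u} [CommRing A] [CommRing B] (e : A ≃+* B) (rs : List A)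
    (h : IsWeaklyRegular A rs) : IsWeaklyRegular B (rs.map e) :=
  (e.toAddEquiv.isWeaklyRegular_congr (List.forall₂_map_right_iff.mpr
    (List.forall₂_same.mpr fun r _ x => map_mul e r x))).1 h

theorem exists_regular_generators {X Y : Scheme.{u}} [IsLocallyNoetherian X]
    (hCM : ∀ x : X, LocCoh.IsCohenMacaulayLocalRing (X.presheaf.stalk x)) (i : Y ⟶ X) [IsClosedImmersion i] (c : ℕ)
    (hgen : ∀ y : Y, ∃ U : X.affineOpens, i.base y ∈ U.1 ∧ ∃ g : Fin c → Γ(X, U.1), i.ker.ideal U = Ideal.span (Set.range g))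
    (hht : ∀ y : Y, (c : ℕ∞) ≤ (RingHom.ker (i.stalkMap y).hom).height) (y : Y) :
    ∃ U : X.affineOpens, i.base y ∈ U.1 ∧ ∃ f : Fin c → Γ(X, U.1),
      i.ker.ideal U = Ideal.span (Set.range f) ∧ IsWeaklyRegular Γ(X, U.1) (List.ofFn f) := by
  obtain ⟨U, hy, g, hg⟩ := hgen y
  have hyU : i y ∈ U.1 := hy
  haveI : IsNoetherianRing Γ(X, U.1) := IsLocallyNoetherian.component_noetherian U
  letI : Algebra Γ(X, U.1) (X.presheaf.stalk (i y)) := TopCat.Presheaf.algebra_section_stalk X.presheaf ⟨i y, hyU⟩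
  haveI := U.2.isLocalization_stalk ⟨i y, hyU⟩
  haveI := hCM (i y)
  have hk : RingHom.ker (i.stalkMap y).hom = Ideal.ofList ((List.ofFn g).map (algebraMap Γ(X, U.1) (X.presheaf.stalk (i y)))) := by
    rw [RegIdealLib.ker_stalkMap i U.2 (IsZariskiLocalAtTarget.restrict ‹IsClosedImmersion i› _) y hyU,
      ← Scheme.Hom.ker_apply, hg, ← Ideal.map_ofList]
    refine congrArg (Ideal.map _) (congrArg Ideal.span ?_)
    ext x
    simp [List.mem_ofFn]
  have hw : IsWeaklyRegular (X.presheaf.stalk (i y)) ((List.ofFn g).map (algebraMap Γ(X, U.1) (X.presheaf.stalk (i y)))) := by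
    refine weaklyRegular_of_height _ (fun x hx => ?_) ?_
    · refine IsLocalRing.le_maximalIdeal (RingHom.ker_ne_top (i.stalkMap y).hom) ?_
      rw [hk]
      exact Ideal.subset_span hx
    · rw [List.length_map, List.length_ofFn, ← hk]
      exact hht y
  obtain ⟨d, hd, hreg⟩ := exists_weaklyRegular_away (U.2.primeIdealOf ⟨i y, hyU⟩).asIdeal (X.presheaf.stalk (i y)) (List.ofFn g) hw
  let rX := X.presheaf.map (homOfLE (X.basicOpen_le d)).op
  refine ⟨X.affineBasicOpen d, (X.mem_basicOpen d (i y) hyU).2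
    (IsLocalization.map_units (X.presheaf.stalk (i y)) (⟨d, hd⟩ : (U.2.primeIdealOf ⟨i y, hyU⟩).asIdeal.primeCompl)),
    fun k => rX (g k), ?_, ?_⟩
  · rw [← i.ker.map_ideal_basicOpen U d, hg, Ideal.map_span, ← Set.range_comp]
    rfl
  · letI : Algebra Γ(X, U.1) Γ(X, X.basicOpen d) := rX.hom.toAlgebra
    haveI : IsLocalization.Away d Γ(X, X.basicOpen d) := U.2.isLocalization_of_eq_basicOpen d (homOfLE (X.basicOpen_le d)) rfl
    have := hreg Γ(X, X.basicOpen d)
    rwa [List.map_ofFn] at this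

theorem isZero_homology_free {X : Scheme.{u}} (U : X.affineOpens) (c : ℕ) (f : Fin c → Γ(X, U.1))
    (hf : IsWeaklyRegular Γ(X, U.1) (List.ofFn f))
    (s : FlatMod.freeMod (↑U.1) c ⟶ Coh.structureModule (↑U.1))
    (hs : ∀ k : Fin c, KoszSh.secForm s ⊤ ((Limits.Sigma.ι (fun _ : Fin c => Coh.structureModule (↑U.1)) k).app ⊤
        (OmegaSh.strSect (↑U.1) ⊤ 1)) = U.1.topIso.inv (f k))
    (C : KoszSh.Cx (FlatMod.freeMod (↑U.1) c) s) (q : ℕ) : Limits.IsZero (C.K.homology (q + 1)) := by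
  classical
  haveI : IsAffine (↑U.1 : Scheme.{u}) := U.2
  haveI : (FlatMod.freeMod (↑U.1) c).IsQuasicoherent := (PullbackMod.isQCoh_and_isFP_of_isFinLocFree _ (DCohLib.isFinLocFree_freeMod c)).1
  refine isZero_homology C (fun x => ⟨⟨⊤, isAffineOpen_top _⟩, trivial,
    Module.Basis.ofEquivFun (S0938.freeEquiv (↑U.1) c), ?_⟩) q
  have hb : ∀ k, KoszSh.secForm s ⊤ (Module.Basis.ofEquivFun (S0938.freeEquiv (↑U.1) c) k) = U.1.topIso.inv (f k) := fun k => by
    refine Eq.trans (congrArg (KoszSh.secForm s ⊤) ?_) (hs k)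
    rw [Module.Basis.coe_ofEquivFun]
    show ∑ j, Pi.single (M := fun _ => Γ(↑U.1, ⊤)) k 1 j • S0938.e (↑U.1) c j = _
    rw [Finset.sum_eq_single k (fun j _ hj => by rw [Pi.single_eq_of_ne hj, zero_smul]) (by simp), Pi.single_eq_same, one_smul]
    rfl
  simp only [hb]
  have := weaklyRegular_map_ringEquiv U.1.topIso.commRingCatIsoToRingEquiv.symm _ hf
  rwa [List.map_ofFn] at this

end Groth.Agent.KoszShLib
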