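import Groth.Agent.KoszShLib.Resolution
import Groth.Agent.KoszShLib.LCI
import Groth.Agent.ExtPowLib.Exist
import Groth.Agent.ExtPowLib.Unique
import Groth.Agent.KVbLib.Rank
import Groth.Agent.TorIndepLib.Stalk
import Groth.Agent.QReg16Lib.Basic
import Groth.Agent.QRegLib.Basic
import Groth.Agent.RegIdealLib.Immersion
import Groth.Prelude.Def_KRR

/-!
# Koszul complexes exist, and resolve the zero scheme of a regular section
-/

set_option autoImplicit false
set_option backward.isDefEq.respectTransparency false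
set_option linter.style.haveILetI false
set_option linter.unusedSectionVars false

universe u

open CategoryTheory CategoryTheory.Limits AlgebraicGeometry TopologicalSpace Opposite
open RingTheory.Sequence exteriorPower
open Groth.Agent.DCohLib Groth.Agent.PullbackMod

noncomputable section

namespace Groth.Agent.KoszShLib

section Diff

variable {R M : Type u} [CommRing R] [AddCommGroup M] [Module R M] (φ : M →ₗ[R] R)

/-- The Koszul differential on exterior powers. -/
def kd (p : ℕ) : ↥(⋀[R]^(p + 1) M) →ₗ[R] ↥(⋀[R]^p M) :=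
  LinearMap.codRestrict (⋀[R]^p M) (ct φ ∘ₗ Submodule.subtype _) fun x => by
    induction x using extPow_induction (p + 1) with
    | hι e =>
      show ct φ (ExteriorAlgebra.ιMulti R (p + 1) e) ∈ ⋀[R]^p M
      rw [← coe_dGen]
      exact (KoszSh.dGen φ p e).2
    | h0 => rw [map_zero]; exact zero_mem _
    | hadd a c ha hc => rw [map_add]; exact add_mem ha hc
    | hsmul r a ha => rw [map_smul]; exact Submodule.smul_mem _ r ha

theorem kd_ιMulti (p : ℕ) (e : Fin (p + 1) → M) : kd φ p (ιMulti R (p + 1) e) = KoszSh.dGen φ p e :=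
  Subtype.ext ((coe_dGen φ p e).symm)

theorem kd_kd (p : ℕ) (x : ↥(⋀[R]^(p + 1 + 1) M)) : kd φ p (kd φ (p + 1) x) = 0 :=
  Subtype.ext (CliffordAlgebra.contractLeft_contractLeft φ _)

theorem zeroEquiv_dGen (e : Fin 1 → M) : exteriorPower.zeroEquiv R M (KoszSh.dGen φ 0 e) = φ (e 0) := by
  simp [KoszSh.dGen, exteriorPower.zeroEquiv_ιMulti]

end Diff

theorem weaklyRegular_of_unit_head {R : Type u} [CommRing R] (a : R) (ha : IsUnit a) (l : List R) :
    IsWeaklyRegular R (a :: l) := by
  refine IsWeaklyRegular.cons (ha.isSMulRegular R) ?_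
  haveI : Subsingleton (QuotSMulTop a R) := by
    refine Submodule.Quotient.subsingleton_iff.2 (eq_top_iff.2 fun x _ => ?_)
    obtain ⟨u, rfl⟩ := ha
    exact ⟨(↑u⁻¹ : R) * x, trivial, by simp⟩
  exact ⟨fun i hi x y _ => Subsingleton.elim x y⟩

variable {Y : Scheme.{u}}

section Exists

variable (E : Y.Modules) [Coh.IsQCoh E] (s : E ⟶ Coh.structureModule Y)

set_option maxHeartbeats 1000000 in
/-- Koszul complexes exist. -/
theorem exists_cx : Nonempty (KoszSh.Cx E s) := by
  classical
  choose L hLq hL using fun p => ExtPowLib.exists_isExtPow E p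
  choose loc hloc using hL
  let D : ∀ (p : ℕ) (U : Y.affineOpens), Γ(L (p + 1), U.1) →ₗ[Γ(Y, U.1)] Γ(L p, U.1) := fun p U =>
    (loc p U).symm.toLinearMap ∘ₗ kd (KoszSh.secForm s U.1) p ∘ₗ (loc (p + 1) U).toLinearMap
  have hgen : ∀ (p : ℕ) (U : Y.affineOpens) (e : Fin (p + 1) → Γ(E, U.1)),
      D p U ((loc (p + 1) U).symm (ιMulti _ (p + 1) e)) = (loc p U).symm (KoszSh.dGen (KoszSh.secForm s U.1) p e) :=
    fun p U e => by
    show (loc p U).symm (kd _ p (loc (p + 1) U ((loc (p + 1) U).symm _))) = _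
    rw [LinearEquiv.apply_symm_apply, kd_ιMulti]
  have hres : ∀ (p : ℕ) (V W : Y.affineOpens) (hVW : V.1 ≤ W.1) (t : Γ(L (p + 1), W.1)),
      D p V ((L (p + 1)).presheaf.map (homOfLE hVW).op t) = (L p).presheaf.map (homOfLE hVW).op (D p W t) := by
    intro p V W hVW t
    obtain ⟨x, rfl⟩ := (loc (p + 1) W).symm.surjective t
    induction x using extPow_induction (p + 1) with
    | hι e =>
      rw [hgen]
      refine (congrArg (D p V) (hloc (p + 1) W V hVW e)).trans ?_
      rw [hgen]
      simp only [KoszSh.dGen, map_sum, map_smul]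
      refine Finset.sum_congr rfl fun i _ => ?_
      rw [Scheme.Modules.map_smul]
      refine congrArg₂ (· • ·) ?_ (hloc p W V hVW _).symm
      rw [map_mul, map_pow, map_neg, map_one]
      exact congrArg _ (secForm_res s hVW (e i))
    | h0 => simp only [map_zero]
    | hadd a c ha hc => simp only [map_add, ha, hc]
    | hsmul r a ha =>
      rw [LinearEquiv.map_smul, LinearMap.map_smul (D p W) r, Scheme.Modules.map_smul]
      refine (LinearMap.map_smul (D p V) _ _).trans ?_
      rw [ha, Scheme.Modules.map_smul]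
  choose d hd using fun p => exists_hom_of_affine (D p) (hres p)
  have sq : ∀ p, d (p + 1) ≫ d p = 0 := fun p => hom_ext_affine _ _ fun W t => by
    show (d p).app W.1 ((d (p + 1)).app W.1 t) = 0
    rw [hd, hd]
    show (loc p W).symm (kd _ p (loc (p + 1) W ((loc (p + 1) W).symm (kd _ (p + 1) _)))) = 0
    rw [LinearEquiv.apply_symm_apply, kd_kd, map_zero]
  refine ⟨⟨ChainComplex.of L d sq, loc, fun p U V h e => hloc p U V h e, fun p U e => ?_⟩⟩
  exact (congrArg (fun f : L (p + 1) ⟶ L p => f.app U.1 ((loc (p + 1) U).symm (ιMulti _ (p + 1) e)))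
    (ChainComplex.of_d L d p)).trans ((hd p U _).trans (hgen p U e))

end Exists

section Resolve

variable {X : Scheme.{u}} [IsLocallyNoetherian Y] {d : ℕ} {E' : Y.Modules}
  (t : E' ⟶ Coh.structureModule Y) (i : X ⟶ Y) [IsClosedImmersion i]

/-- A free neighbourhood of constant rank. -/
theorem exists_basis (hE' : FlatMod.IsFinLocFreeOfRank d E') (x : Y) :
    ∃ U : Y.affineOpens, x ∈ U.1 ∧ Nonempty (Module.Basis (Fin d) Γ(Y, U.1) Γ(E', U.1)) := by
  have hflf := KVb.isFinLocFree_of_rank hE'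
  obtain ⟨D, hD, hxD, ⟨e⟩⟩ := KVb.exists_free_sections hflf x
  have hr : fibreRank E' x = d := by
    exact ((KVb.isFinLocFreeOfRank_iff hflf d).1 hE') x
  rw [hr] at e
  exact ⟨⟨D, hD⟩, hxD, ⟨Module.Basis.ofEquivFun e⟩⟩

/-- The values of `t` on a basis generate the ideal of its values. -/
theorem span_range_basis (U : Y.affineOpens) (b : Module.Basis (Fin d) Γ(Y, U.1) Γ(E', U.1)) :
    Ideal.span {a : Γ(Y, U.1) | ∃ s : Γ(E', U.1), (t.app U.1) s = a} =
      Ideal.span (Set.range fun k => KoszSh.secForm t U.1 (b k)) := by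
  refine le_antisymm (Ideal.span_le.2 ?_) (Ideal.span_le.2 ?_)
  · rintro a ⟨s, rfl⟩
    show KoszSh.secForm t U.1 s ∈ Ideal.span _
    rw [← b.sum_repr s, map_sum]
    refine sum_mem fun k _ => ?_
    rw [map_smul]
    exact Ideal.mul_mem_left _ _ (Ideal.subset_span ⟨k, rfl⟩)
  · rintro _ ⟨k, rfl⟩
    exact Ideal.subset_span ⟨b k, rfl⟩

variable (hE' : FlatMod.IsFinLocFreeOfRank d E')
  (ht : ∀ U : Y.affineOpens, i.ker.ideal U = Ideal.span {a : Γ(Y, U.1) | ∃ s : Γ(E', U.1), (t.app U.1) s = a})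
  (hi : Mor2.IsRegularClosedImmersion i) (hci : FlatMod.IsFinLocFreeOfRank d (Omega.conormal i))

include hE' ht hi hci in
/-- Near every point some basis is sent to a weakly regular sequence. -/
theorem exists_regular_basis (x : Y) :
    ∃ U : Y.affineOpens, x ∈ U.1 ∧ ∃ b : Module.Basis (Fin d) Γ(Y, U.1) Γ(E', U.1),
      IsWeaklyRegular Γ(Y, U.1) (List.ofFn fun k => KoszSh.secForm t U.1 (b k)) := by
  classical
  haveI : Coh.IsQCoh E' := (PullbackMod.isQCoh_and_isFP_of_isFinLocFree E' (KVb.isFinLocFree_of_rank hE')).1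
  obtain ⟨U, hxU, ⟨b⟩⟩ := exists_basis hE' x
  have hI : i.ker.ideal U = Ideal.span (Set.range fun k => KoszSh.secForm t U.1 (b k)) :=
    (ht U).trans (span_range_basis t U b)
  let a : Fin d → Γ(Y, U.1) := fun k => KoszSh.secForm t U.1 (b k)
  by_cases hx : x ∈ Set.range i
  · obtain ⟨y, rfl⟩ := hx
    let R := Y.presheaf.stalk (i y)
    letI : Algebra Γ(Y, U.1) R := TopCat.Presheaf.algebra_section_stalk Y.presheaf ⟨i y, hxU⟩
    haveI := U.2.isLocalization_stalk ⟨i y, hxU⟩
    haveI : IsNoetherianRing Γ(Y, U.1) := IsLocallyNoetherian.component_noetherian U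
    obtain ⟨r, hr, hrs⟩ := TorIndepLib.exists_seq i hi hci y
    let c : Fin d → R := fun k => algebraMap Γ(Y, U.1) R (a k)
    have hc : Ideal.span (Set.range c) = RingHom.ker (i.stalkMap y).hom := by
      rw [RegIdealLib.ker_stalkMap i U.2 (IsZariskiLocalAtTarget.restrict ‹_› U.1) y hxU, ← Scheme.Hom.ker_apply,
        hI, Ideal.map_span, ← Set.range_comp]
      rfl
    have hq : CAlgX.IsQuasiRegular c :=
      QReg16Lib.isQuasiRegular_of_span_eq r c (RegIdealLib.isQuasiRegular_of_isRegular hr) (by rw [hrs, hc])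
    have hjac : Ideal.span (Set.range c) ≤ Ideal.jacobson ⊥ := by
      rw [hc]
      exact (IsLocalRing.le_maximalIdeal (RingHom.ker_ne_top _)).trans (IsLocalRing.maximalIdeal_le_jacobson _)
    have hw := QRegLib.isWeaklyRegular_of_isQuasiRegular c hjac hq
    obtain ⟨g, hg, hreg⟩ := exists_weaklyRegular_away (U.2.primeIdealOf ⟨i y, hxU⟩).asIdeal R (List.ofFn a)
      (by rw [List.map_ofFn]; exact hw)
    have hle := Y.basicOpen_le g
    let rY := Y.presheaf.map (homOfLE hle).op
    obtain ⟨b', hb'⟩ := exists_basis_basicOpen E' U b g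
    refine ⟨Y.affineBasicOpen g, (Y.mem_basicOpen g (i y) hxU).2
      (IsLocalization.map_units R (⟨g, hg⟩ : (U.2.primeIdealOf ⟨i y, hxU⟩).asIdeal.primeCompl)), b', ?_⟩
    letI : Algebra Γ(Y, U.1) Γ(Y, Y.basicOpen g) := rY.hom.toAlgebra
    haveI : IsLocalization.Away g Γ(Y, Y.basicOpen g) := U.2.isLocalization_of_eq_basicOpen g (homOfLE hle) rfl
    have h3 := hreg Γ(Y, Y.basicOpen g)
    rw [List.map_ofFn] at h3
    have h4 : (fun k => KoszSh.secForm t (Y.basicOpen g) (b' k)) = fun k => rY (a k) := funext fun k => by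
      rw [hb' k]
      exact secForm_res t hle (b k)
    show IsWeaklyRegular Γ(Y, Y.basicOpen g) (List.ofFn fun k => KoszSh.secForm t (Y.basicOpen g) (b' k))
    rw [h4]
    exact h3
  · -- off the zero scheme some value is a unit
    have hk : ∃ k, x ∈ Y.basicOpen (a k) := by
      by_contra hno
      push Not at hno
      refine hx ?_
      have hsupp : x ∈ (i.ker.support : Set Y) ∩ U.1 := by
        rw [Scheme.IdealSheafData.coe_support_inter]
        refine ⟨?_, hxU⟩
        rw [hI, Scheme.zeroLocus_span, Scheme.mem_zeroLocus_iff]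
        rintro f ⟨k, rfl⟩
        exact hno k
      have h1 := hsupp.1
      rw [Scheme.Hom.support_ker, i.isClosedEmbedding.isClosed_range.closure_eq] at h1
      exact h1
    obtain ⟨k, hk⟩ := hk
    obtain ⟨b', hb'⟩ := exists_basis_basicOpen E' U b (a k)
    obtain ⟨d', rfl⟩ : ∃ d', d = d' + 1 := ⟨d - 1, by have := k.2; omega⟩
    refine ⟨Y.affineBasicOpen (a k), hk, b'.reindex (Equiv.swap 0 k), ?_⟩
    rw [List.ofFn_succ]
    refine weaklyRegular_of_unit_head _ ?_ _
    have e : (b'.reindex (Equiv.swap 0 k)) 0 = b' k := by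
      rw [Module.Basis.reindex_apply, Equiv.symm_swap, Equiv.swap_apply_left]
    show IsUnit (KoszSh.secForm t (Y.basicOpen (a k)) ((b'.reindex (Equiv.swap 0 k)) 0))
    rw [e, hb' k, secForm_res t (Y.basicOpen_le (a k)) (b k)]
    exact Y.toRingedSpace.isUnit_res_basicOpen (a k)

set_option maxHeartbeats 1000000 in
include hE' ht hi hci in
/-- The Koszul complex of a section resolves the structure sheaf of its zero scheme. -/
theorem exists_lfRes_section :
    ∃ (L : ChainComplex Y.Modules ℕ)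
      (π : L ⟶ (ChainComplex.single₀ Y.Modules).obj ((Scheme.Modules.pushforward i).obj (Coh.structureModule X))),
      KRR.IsLFRes ((Scheme.Modules.pushforward i).obj (Coh.structureModule X)) d L π ∧
        ∀ p, ExtPow.IsExtPow p E' (L.X p) := by
  classical
  have hflf := KVb.isFinLocFree_of_rank hE'
  haveI : Coh.IsQCoh E' := (PullbackMod.isQCoh_and_isFP_of_isFinLocFree E' hflf).1
  obtain ⟨C⟩ := exists_cx E' t
  let M := (Scheme.Modules.pushforward i).obj (Coh.structureModule X)
  let z : ∀ W : Y.affineOpens, Γ(C.K.X 0, W.1) →ₗ[Γ(Y, W.1)] Γ(Y, W.1) := fun W =>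
    (exteriorPower.zeroEquiv Γ(Y, W.1) Γ(E', W.1)).toLinearMap ∘ₗ (C.loc 0 W).toLinearMap
  have zgen : ∀ (W : Y.affineOpens) (e : Fin 0 → Γ(E', W.1)), z W ((C.loc 0 W).symm (ιMulti _ 0 e)) = 1 :=
    fun W e => by
    show exteriorPower.zeroEquiv _ _ (C.loc 0 W ((C.loc 0 W).symm _)) = _
    rw [LinearEquiv.apply_symm_apply, exteriorPower.zeroEquiv_ιMulti]
  have zres : ∀ (V W : Y.affineOpens) (h : V.1 ≤ W.1) (u : Γ(C.K.X 0, W.1)),
      z V ((C.K.X 0).presheaf.map (homOfLE h).op u) = Y.presheaf.map (homOfLE h).op (z W u) := by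
    intro V W h u
    obtain ⟨x, rfl⟩ := (C.loc 0 W).symm.surjective u
    induction x using extPow_induction 0 with
    | hι e =>
      rw [zgen, map_one]
      exact (congrArg (z V) (C.loc_res 0 W V h e)).trans (zgen V _)
    | h0 => simp only [map_zero]
    | hadd a c ha hc => simp only [map_add, ha, hc]
    | hsmul r a ha =>
      rw [LinearEquiv.map_smul, LinearMap.map_smul (z W) r, Scheme.Modules.map_smul]
      refine (LinearMap.map_smul (z V) _ _).trans ?_
      rw [ha, smul_eq_mul, smul_eq_mul, map_mul]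
  let e0 : ∀ W : Y.affineOpens, Γ(C.K.X 0, W.1) →ₗ[Γ(Y, W.1)] Γ(M, W.1) := fun W =>
    { toFun := fun u => (i.app W.1 (z W u) : Γ(X, i ⁻¹ᵁ W.1))
      map_add' := fun a b => by
        show (i.app W.1).hom (z W (a + b)) = (i.app W.1).hom (z W a) + (i.app W.1).hom (z W b)
        rw [map_add, map_add]
      map_smul' := fun r a => by
        show (i.app W.1).hom (z W (r • a)) = (i.app W.1).hom r * (i.app W.1).hom (z W a)
        rw [map_smul, smul_eq_mul, map_mul] }
  obtain ⟨ε, hε⟩ := exists_hom_of_affine e0 fun V W h u => by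
    show (i.app V.1).hom (z V _) = X.presheaf.map _ ((i.app W.1).hom (z W u))
    rw [zres V W h u]
    exact ConcreteCategory.congr_hom (i.c.naturality (homOfLE h).op) (z W u)
  have hsurjz : ∀ W, Function.Surjective (z W) := fun W =>
    (exteriorPower.zeroEquiv _ _).surjective.comp (C.loc 0 W).surjective
  have hdz : ∀ (W : Y.affineOpens) (e : Fin 1 → Γ(E', W.1)),
      z W ((C.K.d 1 0).app W.1 ((C.loc 1 W).symm (ιMulti _ 1 e))) = KoszSh.secForm t W.1 (e 0) := fun W e => by
    show exteriorPower.zeroEquiv _ _ (C.loc 0 W _) = _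
    rw [C.rule, LinearEquiv.apply_symm_apply, zeroEquiv_dGen]
  have hker : ∀ (W : Y.affineOpens) (u : Γ(C.K.X 0, W.1)),
      ε.app W.1 u = 0 ↔ ∃ e : Γ(E', W.1), KoszSh.secForm t W.1 e = z W u := fun W u => by
    rw [hε]
    show z W u ∈ RingHom.ker (i.app W.1).hom ↔ _
    rw [← Scheme.Hom.ker_apply, ht W]
    have : Ideal.span {a : Γ(Y, W.1) | ∃ s : Γ(E', W.1), (t.app W.1) s = a} =
        LinearMap.range (KoszSh.secForm t W.1) := Submodule.span_eq (LinearMap.range (KoszSh.secForm t W.1))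
    rw [this]
    exact Iff.rfl
  have hzero : C.K.d 1 0 ≫ ε = 0 := hom_ext_affine _ _ fun W u => by
    show ε.app W.1 ((C.K.d 1 0).app W.1 u) = 0
    obtain ⟨x, rfl⟩ := (C.loc 1 W).symm.surjective u
    induction x using extPow_induction 1 with
    | hι e => exact (hker W _).2 ⟨e 0, (hdz W e).symm⟩
    | h0 => simp only [map_zero]
    | hadd a c ha hc => simp only [map_add, ha, hc, add_zero]
    | hsmul r a ha =>
      rw [map_smul, Scheme.Modules.Hom.app_smul, Scheme.Modules.Hom.app_smul, ha, smul_zero]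
  have hepi : Epi ε := ⟨fun {Z} g h e => hom_ext_affine _ _ fun W m => by
    obtain ⟨a, ha⟩ := i.app_surjective W.1 W.2 m
    obtain ⟨u, hu⟩ := hsurjz W a
    have hm : ε.app W.1 u = m := by rw [hε]; show i.app W.1 (z W u) = m; rw [hu, ha]
    rw [← hm]
    exact congr(($e).app W.1 u)⟩
  have hexact : (ShortComplex.mk (C.K.d 1 0) ε hzero).Exact := exact_of_affine_local _ fun W u hu x hx => by
    obtain ⟨_, ⟨V, hV, rfl⟩, hxV, hVW⟩ := Y.isBasis_affineOpens.exists_subset_of_mem_open hx W.2
    let V' : Y.affineOpens := ⟨V, hV⟩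
    let uV : Γ(C.K.X 0, V) := (C.K.X 0).presheaf.map (homOfLE hVW).op u
    have h0 : ε.app V uV = 0 := by
      refine (app_res ε hVW u).trans ?_
      exact (congrArg _ hu).trans (map_zero _)
    obtain ⟨e, he⟩ := (hker V' uV).1 h0
    refine ⟨V, hVW, hxV, (C.loc 1 V').symm (ιMulti _ 1 (fun _ => e)), ?_⟩
    exact (C.loc 0 V').injective ((exteriorPower.zeroEquiv _ _).injective ((hdz V' _).trans he))
  let π : C.K ⟶ (ChainComplex.single₀ Y.Modules).obj M := (ChainComplex.toSingle₀Equiv C.K M).symm ⟨ε, hzero⟩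
  refine ⟨C.K, π, ⟨fun p => (KVb.extPow_flf hflf (C.isExtPow p)).1, fun p hp => ?_, ⟨fun p => ?_⟩⟩, C.isExtPow⟩
  · refine KVb.isZero_of_rank_zero (KVb.extPow_flf hflf (C.isExtPow p)).1 fun x => ?_
    rw [(KVb.extPow_flf hflf (C.isExtPow p)).2 x, (KVb.isFinLocFreeOfRank_iff hflf d).1 hE' x]
    exact Nat.choose_eq_zero_of_lt hp
  · cases p with
    | zero =>
      rw [ChainComplex.quasiIsoAt₀_iff, ShortComplex.quasiIso_iff_of_zeros' _ (by simp) (by simp) (by simp)]
      refine (ShortComplex.exact_and_epi_g_iff_of_iso (ShortComplex.isoMk (Iso.refl _) (Iso.refl _) (Iso.refl _)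
        ?_ ?_)).2 (⟨hexact, hepi⟩ : (ShortComplex.mk (C.K.d 1 0) ε hzero).Exact ∧ Epi ε)
      · simp
      · simp [π, ChainComplex.toSingle₀Equiv]
    | succ p =>
      rw [quasiIsoAt_iff_exactAt' _ _ (ChainComplex.exactAt_succ_single_obj _ p),
        HomologicalComplex.exactAt_iff_isZero_homology]
      exact isZero_homology C (fun x => exists_regular_basis t i hE' ht hi hci x) p

end Resolve

end Groth.Agent.KoszShLib
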