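import Mathlib
import Groth.Prelude.Def_KoszulSh

/-! Exactness of the Koszul complex of a regular sequence, inside the exterior algebra. -/

set_option autoImplicit false

universe u v

open ExteriorAlgebra RingTheory.Sequence

namespace Groth.Agent.KoszShLib

variable {R : Type u} [CommRing R] {M : Type v} [AddCommGroup M] [Module R M] (φ : Module.Dual R M)

/-- Contraction by a linear form on the exterior algebra. -/
noncomputable abbrev ct : ExteriorAlgebra R M →ₗ[R] ExteriorAlgebra R M :=
  CliffordAlgebra.contractLeft (Q := (0 : QuadraticForm R M)) φ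

theorem ct_ι_mul (a : M) (x : ExteriorAlgebra R M) : ct φ (ι R a * x) = φ a • x - ι R a * ct φ x :=
  CliffordAlgebra.contractLeft_ι_mul φ a x

theorem ct_one : ct φ (1 : ExteriorAlgebra R M) = 0 := CliffordAlgebra.contractLeft_one (0 : QuadraticForm R M) φ

theorem ct_ι (a : M) : ct φ (ι R a) = φ a • (1 : ExteriorAlgebra R M) := by
  rw [← mul_one (ι R a), ct_ι_mul, ct_one, mul_zero, sub_zero]

theorem coe_dGen : ∀ (p : ℕ) (e : Fin (p + 1) → M),
    (↑(KoszSh.dGen φ p e) : ExteriorAlgebra R M) = ct φ (ExteriorAlgebra.ιMulti R (p + 1) e) := by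
  intro p
  induction p with
  | zero =>
    intro e
    simp [KoszSh.dGen, ExteriorAlgebra.ιMulti_succ_apply]
    exact (Algebra.algebraMap_eq_smul_one _).symm
  | succ p ih =>
    intro e
    rw [ExteriorAlgebra.ιMulti_succ_apply, ct_ι_mul, ← ih]
    simp only [KoszSh.dGen, Submodule.coe_sum, Submodule.coe_smul, exteriorPower.ιMulti_apply_coe]
    rw [Fin.sum_univ_succ, Finset.mul_sum, sub_eq_add_neg, ← Finset.sum_neg_distrib]
    refine congrArg₂ (· + ·) ?_ (Finset.sum_congr rfl fun i _ => ?_)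
    · simp only [Fin.val_zero, pow_zero, one_mul, Fin.succAbove_zero]
      rfl
    · conv_lhs => rw [ExteriorAlgebra.ιMulti_succ_apply]
      rw [Fin.val_succ, pow_succ', neg_one_mul, neg_mul, neg_smul, mul_smul_comm]
      congr 3
      refine congrArg _ (funext fun j => ?_)
      exact congrArg e (Fin.succ_succAbove_succ i j)

variable {n : ℕ} (b : Module.Basis (Fin n) R M)

/-- The span in the exterior algebra of the first `k` basis vectors. -/
noncomputable def spn (k : ℕ) : Submodule R (ExteriorAlgebra R M) :=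
  Submodule.map (ι R) (Submodule.span R (b '' {i | (i : ℕ) < k}))

theorem ι_mem_spn {k : ℕ} {v : M} (hv : v ∈ Submodule.span R (b '' {i | (i : ℕ) < k})) : ι R v ∈ spn b k :=
  Submodule.mem_map_of_mem hv

theorem ct_mem_pow (k : ℕ) : ∀ (p : ℕ) {x}, x ∈ spn b k ^ (p + 1) → ct φ x ∈ spn b k ^ p := by
  intro p
  induction p with
  | zero =>
    intro x hx
    rw [zero_add, pow_one] at hx
    obtain ⟨v, -, rfl⟩ := hx
    rw [ct_ι, pow_zero]
    exact Submodule.smul_mem _ _ (Submodule.mem_one.mpr ⟨1, map_one _⟩)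
  | succ p ih =>
    intro x hx
    rw [pow_succ'] at hx
    refine Submodule.mul_induction_on hx (fun s hs t ht => ?_) fun s t hs ht => ?_
    · obtain ⟨v, hv, rfl⟩ := hs
      rw [ct_ι_mul]
      refine sub_mem (Submodule.smul_mem _ _ ht) ?_
      rw [pow_succ']
      exact Submodule.mul_mem_mul (ι_mem_spn b hv) (ih ht)
    · rw [map_add]; exact add_mem hs ht

theorem ct_eq_zero (k : ℕ) (ε : Module.Dual R M) (hε : ∀ i : Fin n, (i : ℕ) < k → ε (b i) = 0) :
    ∀ (p : ℕ) {x}, x ∈ spn b k ^ p → ct ε x = 0 := by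
  have hv : ∀ v ∈ Submodule.span R (b '' {i | (i : ℕ) < k}), ε v = 0 := fun v hv => by
    induction hv using Submodule.span_induction with
    | mem y hy => obtain ⟨i, hi, rfl⟩ := hy; exact hε i hi
    | zero => exact map_zero _
    | add a c _ _ ha hc => rw [map_add, ha, hc, add_zero]
    | smul r a _ ha => rw [map_smul, ha, smul_zero]
  intro p
  induction p with
  | zero =>
    intro x hx
    rw [pow_zero] at hx
    obtain ⟨r, rfl⟩ := Submodule.mem_one.mp hx
    exact CliffordAlgebra.contractLeft_algebraMap (0 : QuadraticForm R M) ε r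
  | succ p ih =>
    intro x hx
    rw [pow_succ'] at hx
    refine Submodule.mul_induction_on hx (fun s hs t ht => ?_) fun s t hs ht => ?_
    · obtain ⟨v, hvm, rfl⟩ := hs
      rw [ct_ι_mul, hv v hvm, ih ht, zero_smul, mul_zero, sub_zero]
    · rw [map_add, hs, ht, add_zero]

theorem mem_spn_succ (k : ℕ) (hk : k < n) {v : M} (hv : v ∈ Submodule.span R (b '' {i | (i : ℕ) < k + 1})) :
    ∃ w ∈ Submodule.span R (b '' {i | (i : ℕ) < k}), ∃ r : R, v = w + r • b ⟨k, hk⟩ := by
  induction hv using Submodule.span_induction with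
  | mem y hy =>
    obtain ⟨i, hi, rfl⟩ := hy
    by_cases hik : (i : ℕ) < k
    · exact ⟨b i, Submodule.subset_span ⟨i, hik, rfl⟩, 0, by rw [zero_smul, add_zero]⟩
    · have hi' : (i : ℕ) < k + 1 := hi
      have : i = ⟨k, hk⟩ := Fin.ext (by show (i : ℕ) = k; omega)
      exact ⟨0, zero_mem _, 1, by rw [this, one_smul, zero_add]⟩
  | zero => exact ⟨0, zero_mem _, 0, by rw [zero_smul, add_zero]⟩
  | add a c _ _ ha hc =>
    obtain ⟨w, hw, r, rfl⟩ := ha
    obtain ⟨w', hw', r', rfl⟩ := hc
    exact ⟨w + w', add_mem hw hw', r + r', by rw [add_smul]; abel⟩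
  | smul t a _ ha =>
    obtain ⟨w, hw, r, rfl⟩ := ha
    exact ⟨t • w, Submodule.smul_mem _ _ hw, t * r, by rw [smul_add, mul_smul]⟩

theorem spn_mono (k : ℕ) : spn b k ≤ spn b (k + 1) :=
  Submodule.map_mono (Submodule.span_mono (Set.image_mono fun i (hi : (i : ℕ) < k) => (show (i : ℕ) < k + 1 by omega)))

theorem split_pow (k : ℕ) (hk : k < n) : ∀ (p : ℕ) {x}, x ∈ spn b (k + 1) ^ (p + 1) →
    ∃ y ∈ spn b k ^ (p + 1), ∃ z ∈ spn b k ^ p, x = y + ι R (b ⟨k, hk⟩) * z := by
  intro p
  induction p with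
  | zero =>
    intro x hx
    rw [zero_add, pow_one] at hx
    obtain ⟨v, hv, rfl⟩ := hx
    obtain ⟨w, hw, r, rfl⟩ := mem_spn_succ b k hk hv
    refine ⟨ι R w, by rw [zero_add, pow_one]; exact ι_mem_spn b hw, r • 1, ?_, ?_⟩
    · rw [pow_zero]; exact Submodule.smul_mem _ _ (Submodule.mem_one.mpr ⟨1, map_one _⟩)
    · rw [map_add, map_smul, mul_smul_comm, mul_one]
  | succ p ih =>
    intro x hx
    rw [pow_succ'] at hx
    refine Submodule.mul_induction_on hx (fun s hs t ht => ?_) fun s t hs ht => ?_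
    · obtain ⟨v, hv, rfl⟩ := hs
      obtain ⟨w, hw, r, rfl⟩ := mem_spn_succ b k hk hv
      obtain ⟨y, hy, z, hz, rfl⟩ := ih ht
      refine ⟨ι R w * y, ?_, r • y - ι R w * z, sub_mem (Submodule.smul_mem _ _ hy) ?_, ?_⟩
      · rw [pow_succ']; exact Submodule.mul_mem_mul (ι_mem_spn b hw) hy
      · rw [pow_succ']; exact Submodule.mul_mem_mul (ι_mem_spn b hw) hz
      · have h1 : ι R w * (ι R (b ⟨k, hk⟩) * z) = -(ι R (b ⟨k, hk⟩) * (ι R w * z)) := by
          rw [← mul_assoc, ← mul_assoc, ← neg_mul, eq_neg_of_add_eq_zero_left (ι_add_mul_swap w (b ⟨k, hk⟩))]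
        have h2 : ι R (b ⟨k, hk⟩) * (ι R (b ⟨k, hk⟩) * z) = 0 := by
          rw [← mul_assoc, ι_sq_zero, zero_mul]
        rw [map_add, map_smul, add_mul, mul_add, mul_add, smul_mul_assoc, smul_mul_assoc, h1, h2, smul_zero, add_zero,
          mul_sub, mul_smul_comm]
        abel
    · obtain ⟨y, hy, z, hz, rfl⟩ := hs
      obtain ⟨y', hy', z', hz', rfl⟩ := ht
      exact ⟨y + y', add_mem hy hy', z + z', add_mem hz hz', by rw [mul_add]; abel⟩

theorem exists_boundary (hreg : IsWeaklyRegular R (List.ofFn fun i => φ (b i))) :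
    ∀ k : ℕ, k ≤ n → ∀ (p : ℕ) {x}, x ∈ spn b k ^ (p + 1) → ct φ x = 0 → ∃ w ∈ spn b k ^ (p + 2), ct φ w = x := by
  intro k
  induction k with
  | zero =>
    intro _ p x hx _
    have h0 : spn b 0 = ⊥ := by
      rw [spn, show {i : Fin n | (i : ℕ) < 0} = ∅ from Set.eq_empty_of_forall_notMem fun i hi => Nat.not_lt_zero _ hi,
        Set.image_empty, Submodule.span_empty, Submodule.map_bot]
    rw [h0, pow_succ', Submodule.bot_mul, Submodule.mem_bot] at hx
    exact ⟨0, zero_mem _, by rw [map_zero, hx]⟩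
  | succ k ih =>
    intro hk p x hx hdx
    have hkn : k < n := hk
    obtain ⟨y, hy, z, hz, rfl⟩ := split_pow b k hkn p hx
    set e := ι R (b ⟨k, hkn⟩) with he
    set a := φ (b ⟨k, hkn⟩) with ha
    let ε : Module.Dual R M := b.coord ⟨k, hkn⟩
    have hεb : ε (b ⟨k, hkn⟩) = 1 := by simp [ε]
    have hεz : ∀ (m : ℕ) {t}, t ∈ spn b k ^ m → ct ε t = 0 := fun m t ht => by
      refine ct_eq_zero b k ε (fun i hi => ?_) m ht
      have : i ≠ ⟨k, hkn⟩ := fun h => by rw [h] at hi; exact lt_irrefl _ hi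
      simp [ε, this]
    rw [map_add, ct_ι_mul] at hdx
    have hdz : ct φ z = 0 := by
      cases p with
      | zero =>
        rw [pow_zero] at hz
        obtain ⟨r, rfl⟩ := Submodule.mem_one.mp hz
        exact CliffordAlgebra.contractLeft_algebraMap (0 : QuadraticForm R M) φ r
      | succ m =>
        have hyp := congrArg (ct ε) hdx
        rw [map_add, map_sub, map_smul, ct_ι_mul, map_zero, hεz _ (ct_mem_pow φ b k _ hy), hεz _ hz, hεb,
          hεz _ (ct_mem_pow φ b k _ hz), one_smul, smul_zero, mul_zero, sub_zero, zero_add, zero_sub, neg_eq_zero] at hyp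
        exact hyp
    rw [hdz, mul_zero, sub_zero] at hdx
    -- `z` is a boundary of the first `k` vectors
    obtain ⟨w, hw, hwz⟩ : ∃ w ∈ spn b k ^ (p + 1), ct φ w = z := by
      cases p with
      | zero =>
        rw [pow_zero] at hz
        obtain ⟨r, rfl⟩ := Submodule.mem_one.mp hz
        have hI : a * r ∈ Submodule.span R ((fun i => φ (b i)) '' {i : Fin n | (i : ℕ) < k}) := by
          rw [zero_add, pow_one] at hy
          obtain ⟨v, hv, rfl⟩ := hy
          rw [ct_ι, Algebra.smul_def, mul_one, Algebra.smul_def, ← map_mul, ← map_add] at hdx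
          have h0 : φ v + φ (b ⟨k, hkn⟩) * r = 0 := (ExteriorAlgebra.algebraMap_leftInverse M).injective (hdx.trans (map_zero _).symm)
          rw [ha, eq_neg_of_add_eq_zero_right h0]
          refine neg_mem ?_
          rw [← Set.image_image φ b, Submodule.span_image]
          exact Submodule.mem_map_of_mem hv
        rw [isWeaklyRegular_iff_Fin] at hreg
        have hlt : k < (List.ofFn fun i => φ (b i)).length := by rwa [List.length_ofFn]
        have hr := hreg ⟨k, hlt⟩
        have hset : Submodule.span R ((fun i => φ (b i)) '' {i : Fin n | (i : ℕ) < k}) =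
            Ideal.ofList ((List.ofFn fun i => φ (b i)).take k) • (⊤ : Submodule R R) := by
          rw [smul_eq_mul, Ideal.mul_top, Ideal.ofList]
          refine congrArg (Submodule.span R) (Set.ext fun t => ?_)
          simp only [Set.mem_image, Set.mem_ofPred_eq, List.mem_take_iff_getElem, List.getElem_ofFn, List.length_ofFn]
          constructor
          · rintro ⟨i, hi, rfl⟩; exact ⟨i.1, by omega, rfl⟩
          · rintro ⟨i, hi, rfl⟩; exact ⟨⟨i, by omega⟩, by show i < k; omega, rfl⟩
        have hrI : r ∈ Submodule.span R ((fun i => φ (b i)) '' {i : Fin n | (i : ℕ) < k}) := by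
          rw [hset] at hI ⊢
          rw [← Submodule.Quotient.mk_eq_zero] at hI ⊢
          refine hr.right_eq_zero_of_smul ?_
          rw [← Submodule.Quotient.mk_smul]
          simpa [List.getElem_ofFn, ha] using hI
        rw [← Set.image_image φ b, Submodule.span_image] at hrI
        obtain ⟨v, hv, hvr⟩ := hrI
        exact ⟨ι R v, by rw [zero_add, pow_one]; exact ι_mem_spn b hv, by
          rw [ct_ι, hvr, Algebra.smul_def, mul_one]⟩
      | succ m => exact ih hkn.le m hz hdz
    obtain ⟨w', hw', hw'x⟩ := ih hkn.le p (add_mem hy (Submodule.smul_mem _ a hw)) (by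
      rw [map_add, map_smul, hwz]; exact hdx)
    refine ⟨w' - e * w, sub_mem (pow_le_pow_left' (spn_mono b k) _ hw') ?_, ?_⟩
    · rw [pow_succ']
      exact Submodule.mul_mem_mul (ι_mem_spn b (Submodule.subset_span ⟨⟨k, hkn⟩, show k < k + 1 by omega, rfl⟩))
        (pow_le_pow_left' (spn_mono b k) _ hw)
    · rw [map_sub, hw'x, he, ct_ι_mul, hwz]
      abel

/-- Exactness in positive degrees. -/
theorem exact_top (hreg : IsWeaklyRegular R (List.ofFn fun i => φ (b i))) (p : ℕ) (x : ↥(⋀[R]^(p + 1) M))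
    (hx : ct φ (x : ExteriorAlgebra R M) = 0) : ∃ w : ↥(⋀[R]^(p + 2) M), ct φ (w : ExteriorAlgebra R M) = x := by
  have htop : spn b n = LinearMap.range (ι R : M →ₗ[R] ExteriorAlgebra R M) := by
    rw [spn, show {i : Fin n | (i : ℕ) < n} = Set.univ from Set.eq_univ_of_forall fun i => i.2,
      Set.image_univ, b.span_eq, Submodule.map_top]
  obtain ⟨w, hw, h⟩ := exists_boundary φ b hreg n le_rfl p (x := x.1) (by rw [htop]; exact x.2) hx
  rw [htop] at hw
  exact ⟨⟨w, hw⟩, h⟩

end Groth.Agent.KoszShLib
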