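import Groth.Agent.KoszShLib.AffHom
import Groth.Agent.KoszShLib.Algebra
import Groth.Agent.SiteBase.FreeMod
import Groth.Agent.QCohLib.Exact
import Groth.Agent.CohBase.Push
import Groth.Agent.CohBase.Localization
import Groth.Agent.PullbackMod.LocFree

/-! Koszul complexes of regular sections are exact in positive degrees. -/

set_option autoImplicit false
set_option linter.style.haveILetI false
set_option backward.isDefEq.respectTransparency false
set_option backward.isDefEq.respectTransparency.types false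

universe u

open CategoryTheory CategoryTheory.Limits AlgebraicGeometry Opposite TopologicalSpace

namespace Groth.Agent.KoszShLib

noncomputable section

variable {X : Scheme.{u}}

theorem secForm_res {E : X.Modules} (s : E ⟶ Coh.structureModule X) {V U : X.Opens} (h : V ≤ U) (e : Γ(E, U)) :
    KoszSh.secForm s V (E.presheaf.map (homOfLE h).op e) = X.presheaf.map (homOfLE h).op (KoszSh.secForm s U e) := by
  rw [KoszSh.secForm_apply, KoszSh.secForm_apply, app_res s h e]
  rfl

theorem exact_of_affine_local (S : ShortComplex X.Modules)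
    (h : ∀ (W : X.Opens) (t : Γ(S.X₂, W)), S.g.app W t = 0 → ∀ x ∈ W,
      ∃ (V : X.Opens) (hVW : V ≤ W), x ∈ V ∧ ∃ r : Γ(S.X₁, V), S.f.app V r = S.X₂.presheaf.map (homOfLE hVW).op t) :
    S.Exact := by
  haveI : PreservesFiniteColimits (QCohLib.toAbF X) := SiteBase.preservesFiniteColimits_toSheaf X.ringCatSheaf
  haveI : (QCohLib.toAbF X).Faithful := inferInstanceAs (SheafOfModules.toSheaf.{u} X.ringCatSheaf).Faithful
  rw [← ShortComplex.exact_map_iff_of_faithful S (QCohLib.toAbF X)]
  exact CohBase.exact_of_local _ fun W t ht x hx => h W t ht x hx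

/-- A basis on an affine open restricts to a basis on a basic open. -/
theorem exists_basis_basicOpen (E : X.Modules) [E.IsQuasicoherent] {n : ℕ} (U : X.affineOpens)
    (b : Module.Basis (Fin n) Γ(X, U.1) Γ(E, U.1)) (g : Γ(X, U.1)) :
    ∃ b' : Module.Basis (Fin n) Γ(X, X.basicOpen g) Γ(E, X.basicOpen g),
      ∀ i, b' i = E.presheaf.map (homOfLE (X.basicOpen_le g)).op (b i) := by
  have hle := X.basicOpen_le g
  let rX := X.presheaf.map (homOfLE hle).op
  let rE := E.presheaf.map (homOfLE hle).op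
  letI : Algebra Γ(X, U.1) Γ(X, X.basicOpen g) := rX.hom.toAlgebra
  haveI : IsLocalization.Away g Γ(X, X.basicOpen g) := U.2.isLocalization_of_eq_basicOpen g (homOfLE (X.basicOpen_le g)) rfl
  have hu : ∀ m : ℕ, IsUnit (rX (g ^ m)) := fun m =>
    IsLocalization.map_units Γ(X, X.basicOpen g) (⟨g ^ m, m, rfl⟩ : Submonoid.powers g)
  have hsmul : ∀ (a : Γ(X, U.1)) (e : Γ(E, U.1)), rE (a • e) = rX a • rE e := fun a e => Scheme.Modules.map_smul E _ _ _
  refine ⟨Module.Basis.mk (v := fun i => rE (b i)) ?_ ?_, fun i => Module.Basis.mk_apply _ _ i⟩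
  · rw [Fintype.linearIndependent_iff]
    intro c hc i
    obtain ⟨⟨_, m, rfl⟩, hm⟩ := IsLocalization.exist_integer_multiples_of_finite (Submonoid.powers g) c
    choose a ha using hm
    have ha' : ∀ j, rX (a j) = rX (g ^ m) * c j := ha
    have h0 : rE (∑ j, a j • b j) = 0 := by
      rw [map_sum]
      simp only [hsmul, ha', mul_smul, ← Finset.smul_sum, hc, smul_zero]
    obtain ⟨k, hk⟩ := CohBase.exists_pow_zero E U.2 g rfl _ h0
    rw [CohBase.sc_apply] at hk
    have hk' : (g ^ k) • (∑ j, a j • b j) = 0 := by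
      refine Eq.trans ?_ hk
      congr 1
      exact (ConcreteCategory.congr_hom (X.presheaf.map_id (op U.1)) (g ^ k)).symm
    rw [Finset.smul_sum] at hk'
    simp only [smul_smul] at hk'
    have hzero : g ^ k * a i = 0 := Fintype.linearIndependent_iff.mp b.linearIndependent _ hk' i
    have h1 : rX (g ^ k) * (rX (g ^ m) * c i) = 0 := by rw [← ha', ← map_mul, hzero, map_zero]
    exact ((hu m).mul_right_eq_zero).mp (((hu k).mul_right_eq_zero).mp h1)
  · rintro t -
    obtain ⟨m, e, he⟩ := CohBase.exists_pow_extend E U.2 g rfl t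
    rw [CohBase.sc_apply] at he
    obtain ⟨v, hv⟩ := hu m
    have : t = ((v⁻¹ : Units _) : Γ(X, X.basicOpen g)) • rE e := by
      rw [show rE e = rX (g ^ m) • t from he, smul_smul, ← hv, Units.inv_mul, one_smul]
    rw [this, ← b.sum_repr e, map_sum]
    refine Submodule.smul_mem _ _ (Submodule.sum_mem _ fun j _ => ?_)
    rw [hsmul]
    exact Submodule.smul_mem _ _ (Submodule.subset_span ⟨j, rfl⟩)

theorem weaklyRegular_basicOpen {E : X.Modules} (s : E ⟶ Coh.structureModule X) {n : ℕ} (U : X.affineOpens)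
    (b : Fin n → Γ(E, U.1)) (g : Γ(X, U.1))
    (hreg : RingTheory.Sequence.IsWeaklyRegular Γ(X, U.1) (List.ofFn fun k => KoszSh.secForm s U.1 (b k))) :
    RingTheory.Sequence.IsWeaklyRegular Γ(X, X.basicOpen g)
      (List.ofFn fun k => KoszSh.secForm s (X.basicOpen g) (E.presheaf.map (homOfLE (X.basicOpen_le g)).op (b k))) := by
  letI : Algebra Γ(X, U.1) Γ(X, X.basicOpen g) := (X.presheaf.map (homOfLE (X.basicOpen_le g)).op).hom.toAlgebra
  haveI : IsLocalization.Away g Γ(X, X.basicOpen g) := U.2.isLocalization_of_eq_basicOpen g (homOfLE (X.basicOpen_le g)) rfl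
  haveI : Module.Flat Γ(X, U.1) Γ(X, X.basicOpen g) := IsLocalization.flat _ (Submonoid.powers g)
  have h := hreg.of_flat_of_isBaseChange (f := Algebra.linearMap Γ(X, U.1) Γ(X, X.basicOpen g)) (IsBaseChange.linearMap _ _)
  rw [List.map_ofFn] at h
  simpa only [Function.comp_def, secForm_res, RingHom.algebraMap_toAlgebra] using h

theorem coe_loc_d {E : X.Modules} {s : E ⟶ Coh.structureModule X} (C : KoszSh.Cx E s) (p : ℕ) (U : X.affineOpens)
    (t : Γ(C.K.X (p + 1), U.1)) :
    (↑(C.loc p U ((C.K.d (p + 1) p).app U.1 t)) : ExteriorAlgebra Γ(X, U.1) Γ(E, U.1)) =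
      ct (KoszSh.secForm s U.1) ↑(C.loc (p + 1) U t) := by
  obtain ⟨x, rfl⟩ := (C.loc (p + 1) U).symm.surjective t
  rw [LinearEquiv.apply_symm_apply]
  induction x using extPow_induction (p + 1) with
  | hι e => rw [C.rule, LinearEquiv.apply_symm_apply, coe_dGen]; rfl
  | h0 => simp
  | hadd a c ha hc => simp only [map_add, Submodule.coe_add, ha, hc]
  | hsmul r a ha => simp only [map_smul, Scheme.Modules.Hom.app_smul, Submodule.coe_smul, ha]

theorem isZero_homology {E : X.Modules} [E.IsQuasicoherent] {s : E ⟶ Coh.structureModule X} (C : KoszSh.Cx E s) {n : ℕ}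
    (hs : ∀ x : X, ∃ U : X.affineOpens, x ∈ U.1 ∧
      ∃ b : Module.Basis (Fin n) Γ(X, U.1) Γ(E, U.1),
        RingTheory.Sequence.IsWeaklyRegular Γ(X, U.1) (List.ofFn fun k => KoszSh.secForm s U.1 (b k)))
    (q : ℕ) : IsZero (C.K.homology (q + 1)) := by
  rw [← HomologicalComplex.exactAt_iff_isZero_homology,
    HomologicalComplex.exactAt_iff' C.K (q + 2) (q + 1) q (by simp) (by simp)]
  refine exact_of_affine_local _ fun W t ht x hx => ?_
  obtain ⟨U, hxU, b, hb⟩ := hs x
  obtain ⟨g, hgW, hxg⟩ := U.2.exists_basicOpen_le (V := W) ⟨x, hx⟩ hxU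
  obtain ⟨b', hb'⟩ := exists_basis_basicOpen E U b g
  let V : X.affineOpens := ⟨X.basicOpen g, U.2.basicOpen g⟩
  have hreg : RingTheory.Sequence.IsWeaklyRegular Γ(X, V.1) (List.ofFn fun k => KoszSh.secForm s V.1 (b' k)) := by
    simp only [hb']
    exact weaklyRegular_basicOpen s U b g hb
  refine ⟨V.1, hgW, hxg, ?_⟩
  let tV : Γ(C.K.X (q + 1), V.1) := (C.K.X (q + 1)).presheaf.map (homOfLE hgW).op t
  have h0 : (C.K.d (q + 1) q).app V.1 tV = 0 := by
    show (C.K.d (q + 1) q).app V.1 ((C.K.X (q + 1)).presheaf.map (homOfLE hgW).op t) = 0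
    rw [app_res]
    exact (congrArg _ ht).trans (map_zero _)
  have h1 : ct (KoszSh.secForm s V.1) ↑(C.loc (q + 1) V tV) = 0 := by
    rw [← coe_loc_d, h0, map_zero, Submodule.coe_zero]
  obtain ⟨w, hw⟩ := exact_top (KoszSh.secForm s V.1) b' hreg q _ h1
  refine ⟨(C.loc (q + 2) V).symm w, (C.loc (q + 1) V).injective (Subtype.ext ?_)⟩
  show ((C.loc (q + 1) V ((C.K.d (q + 2) (q + 1)).app V.1 ((C.loc (q + 2) V).symm w)) : ↥(⋀[Γ(X, V.1)]^(q + 1) Γ(E, V.1))) :
    ExteriorAlgebra Γ(X, V.1) Γ(E, V.1)) = (C.loc (q + 1) V tV).1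
  rw [coe_loc_d, LinearEquiv.apply_symm_apply, hw]

end

end Groth.Agent.KoszShLib
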